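import Groth.Agent.OmegaUniv.Deriv
import Groth.Agent.ConormalSection.SpanPull
import Groth.Agent.ConormalSection.Ideal

/-! Restricted pulled-back sections. -/

set_option autoImplicit false
universe u
open CategoryTheory Limits AlgebraicGeometry TopologicalSpace Opposite OmegaSh
open Groth.Agent.ConormalSection (pullRes pullRes_add pullRes_smul)

namespace Groth.Agent.OmegaUniv

variable {X Y Z : Scheme.{u}} (h : Z ⟶ X) (M : X.Modules)

theorem res_res {N : Z.Modules} {A B C : Z.Opens} (h₁ : B ≤ A) (h₂ : C ≤ B) (x : Γ(N, A)) :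
    N.presheaf.map (homOfLE h₂).op (N.presheaf.map (homOfLE h₁).op x) =
      N.presheaf.map (homOfLE (h₂.trans h₁)).op x := by
  rw [← ConcreteCategory.comp_apply, ← Functor.map_comp]
  rfl

theorem res_self {N : Z.Modules} {A : Z.Opens} (h₁ : A ≤ A) (x : Γ(N, A)) :
    N.presheaf.map (homOfLE h₁).op x = x :=
  ConcreteCategory.congr_hom (N.presheaf.map_id (op A)) x

theorem res_pullRes {W : X.Opens} {V V' : Z.Opens} (e : V ≤ h ⁻¹ᵁ W) (e' : V' ≤ V) (m : Γ(M, W)) :
    ((Scheme.Modules.pullback h).obj M).presheaf.map (homOfLE e').op (pullRes h M e m) =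
      pullRes h M (e'.trans e) m :=
  res_res e e' _

theorem pullRes_res {W W' : X.Opens} {V : Z.Opens} (hW : W' ≤ W) (e : V ≤ h ⁻¹ᵁ W') (m : Γ(M, W)) :
    pullRes h M e (M.presheaf.map (homOfLE hW).op m) =
      pullRes h M (e.trans (h.preimage_mono hW)) m := by
  rw [pullRes, OmegaSh.pullSect_map]
  exact res_res (h.preimage_mono hW) e _

theorem pullRes_zero {W : X.Opens} {V : Z.Opens} (e : V ≤ h ⁻¹ᵁ W) :
    pullRes h M e (0 : Γ(M, W)) = 0 := by
  have h0 := pullRes_add h M e (0 : Γ(M, W)) 0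
  rwa [add_zero, left_eq_add] at h0

theorem pullRes_sub {W : X.Opens} {V : Z.Opens} (e : V ≤ h ⁻¹ᵁ W) (m n : Γ(M, W)) :
    pullRes h M e (m - n) = pullRes h M e m - pullRes h M e n := by
  rw [eq_sub_iff_add_eq, ← pullRes_add, sub_add_cancel]

variable {h} {M} {G : Z.Modules}

theorem app_res (γ : (Scheme.Modules.pullback h).obj M ⟶ G) {W : X.Opens} {V : Z.Opens}
    (e : V ≤ h ⁻¹ᵁ W) (m : Γ(M, W)) :
    γ.app V (pullRes h M e m) = G.presheaf.map (homOfLE e).op (γ.app (h ⁻¹ᵁ W) (pullSect h M W m)) :=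
  congr(($((Scheme.Modules.Hom.mapPresheaf γ).naturality (homOfLE e).op)) (pullSect h M W m))

theorem res_pullSect {W : X.Opens} (m : Γ(M, W)) :
    pullRes h M (le_refl (h ⁻¹ᵁ W)) m = pullSect h M W m :=
  res_self _ _

variable {Y' : Scheme.{u}} {f : X ⟶ Y} {f' : Z ⟶ Y'}

theorem diffCompat_res {Ω₂ : Z.Modules} {d₁ : Der f M} {d₂ : Der f' Ω₂}
    {c : (Scheme.Modules.pullback h).obj M ⟶ Ω₂} (hc : IsDiffCompat h d₁ d₂ c) {U : X.Opens}
    {V : Z.Opens} (e : V ≤ h ⁻¹ᵁ U) (s : Γ(X, U)) :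
    c.app V (pullRes h M e (d₁.app U s)) = d₂.app V (h.appLE U V e s) := by
  rw [app_res, hc, ← app_map]
  rfl

theorem conormalDiff_res {d : Der f M} {φ : Omega.conormal h ⟶ (Scheme.Modules.pullback h).obj M}
    (hφ : IsConormalDiff h d φ) {U : X.Opens} {V : Z.Opens} (e : V ≤ h ⁻¹ᵁ U)
    (m : Γ(ClSub.idealMod h.ker, U)) :
    φ.app V (pullRes h (ClSub.idealMod h.ker) e m) = pullRes h M e (d.app U (idealSect h.ker U m)) := by
  refine (app_res (M := ClSub.idealMod h.ker) φ e m).trans ?_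
  exact congrArg (((Scheme.Modules.pullback h).obj M).presheaf.map (homOfLE e).op) (hφ U m)

/-- functions killed by a quasi-compact morphism are sections of its ideal sheaf -/
theorem exists_idealSect (i : Z ⟶ X) [QuasiCompact i] {W : X.Opens} (a : Γ(X, W))
    (ha : i.app W a = 0) : ∃ m, idealSect i.ker W m = a := by
  have h0 : i.ker.subschemeι.app W a = 0 := by
    refine TopCat.Presheaf.section_ext i.ker.subscheme.sheaf _ _ _ fun x hx => ?_
    obtain ⟨V, hV, hxV, hVW⟩ := exists_isAffineOpen_mem_and_subset (X := X) (x := i.ker.subschemeι x)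
      (U := W) hx
    replace hVW : V ≤ W := hVW
    have h1 : X.presheaf.map (homOfLE hVW).op a ∈ i.ker.ideal ⟨V, hV⟩ := by
      rw [Scheme.Hom.ker_apply, RingHom.mem_ker]
      show (X.presheaf.map (homOfLE hVW).op ≫ i.app V) a = 0
      rw [i.naturality, CommRingCat.comp_apply, ha, map_zero]
    rw [← Scheme.IdealSheafData.ker_subschemeι_app, RingHom.mem_ker] at h1
    change (X.presheaf.map (homOfLE hVW).op ≫ i.ker.subschemeι.app V) a = 0 at h1
    rw [i.ker.subschemeι.naturality, CommRingCat.comp_apply] at h1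
    show i.ker.subscheme.presheaf.germ (i.ker.subschemeι ⁻¹ᵁ W) x hx _ =
      i.ker.subscheme.presheaf.germ (i.ker.subschemeι ⁻¹ᵁ W) x hx 0
    rw [map_zero]
    refine (TopCat.Presheaf.germ_res_apply i.ker.subscheme.presheaf
      (homOfLE (i.ker.subschemeι.preimage_mono hVW)) x hxV _).symm.trans ?_
    exact (congrArg (i.ker.subscheme.presheaf.germ _ x hxV) h1).trans (map_zero _)
  exact ⟨kerLift (ClSub.toSubscheme i.ker) W (strSect X W a) h0,
    ι_kerLift (ClSub.toSubscheme i.ker) W _ _⟩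

end Groth.Agent.OmegaUniv

namespace Groth.Agent.OmegaUniv

theorem idealSect_map {X : Scheme.{u}} (K : X.IdealSheafData) {U V : X.Opens} (e : V ≤ U)
    (m : Γ(ClSub.idealMod K, U)) :
    idealSect K V ((ClSub.idealMod K).presheaf.map (homOfLE e).op m) =
      X.presheaf.map (homOfLE e).op (idealSect K U m) :=
  congr(($((Scheme.Modules.Hom.mapPresheaf (ClSub.idealModι K)).naturality (homOfLE e).op)) m)

theorem app_eq_zero_of_idealSect {X Z : Scheme.{u}} (i : Z ⟶ X) (W : X.Opens)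
    (m : Γ(ClSub.idealMod i.ker, W)) : i.app W (idealSect i.ker W m) = 0 := by
  have key : ∀ ψ : Z ⟶ X, i.toImage ≫ i.ker.subschemeι = ψ → ψ.app W (idealSect i.ker W m) = 0 := by
    rintro ψ rfl
    exact (congrArg (i.toImage.app _) (ConormalSection.subschemeι_app_idealSect i.ker W m)).trans (map_zero _)
  exact key i i.toImage_imageι

theorem appLE_appLE_eq {X Y Z : Scheme.{u}} {a : X ⟶ Y} {b : Y ⟶ Z} {c : X ⟶ Z} (h : a ≫ b = c)
    {U : Z.Opens} {V : Y.Opens} {W : X.Opens} (e₁ : V ≤ b ⁻¹ᵁ U) (e₂ : W ≤ a ⁻¹ᵁ V)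
    (e₃ : W ≤ c ⁻¹ᵁ U) (x : Γ(Z, U)) :
    a.appLE V W e₂ (b.appLE U V e₁ x) = c.appLE U W e₃ x := by
  subst h
  rw [← CommRingCat.comp_apply, Scheme.Hom.appLE_comp_appLE]

theorem appLE_id {X : Scheme.{u}} {c : X ⟶ X} (h : c = 𝟙 X) {U W : X.Opens} (e : W ≤ c ⁻¹ᵁ U)
    (e' : W ≤ U) (x : Γ(X, U)) : c.appLE U W e x = X.presheaf.map (homOfLE e').op x := by
  subst h
  simp [Scheme.Hom.appLE]
  rfl

end Groth.Agent.OmegaUniv
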