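import Groth.Agent.OmegaUniv.Res
import Groth.Agent.ConormalSection.Universal
import Groth.Agent.ConormalSection.OmegaAffine
import Groth.Agent.S15742
import Groth.Agent.QCohLib.Local
import Groth.Agent.QCohLib.Sections

/-! Any universal derivation on affine opens is the Kaehler differential. -/

set_option autoImplicit false
universe u
open CategoryTheory Limits AlgebraicGeometry TopologicalSpace Opposite OmegaSh

namespace Groth.Agent.OmegaUniv

variable {X Y : Scheme.{u}} {f : X ⟶ Y} {M : X.Modules} {d : Der f M}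

/-- a derivation on sections over affine opens, as a linear map out of differentials -/
noncomputable def toMod (d : Der f M) (V : Y.Opens) (U : X.Opens) (h : U ≤ f ⁻¹ᵁ V) :
    CommRingCat.KaehlerDifferential (f.appLE V U h) ⟶ OmAff.sectMod M U :=
  (ModuleCat.Derivation.mk (M := OmAff.sectMod M U) (f := f.appLE V U h) (fun b => d.app U b)
    (fun a b => map_add (d.app U) a b) (fun a b => app_mul d U a b) (fun c => app_appLE d V U h c)).desc

theorem toMod_d (d : Der f M) (V : Y.Opens) (U : X.Opens) (h : U ≤ f ⁻¹ᵁ V) (b : Γ(X, U)) :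
    toMod d V U h (CommRingCat.KaehlerDifferential.d b) = d.app U b :=
  (ModuleCat.Derivation.mk (M := OmAff.sectMod M U) (f := f.appLE V U h) (fun b => d.app U b)
    (fun a b => map_add (d.app U) a b) (fun a b => app_mul d U a b) (fun c => app_appLE d V U h c)).desc_d b

theorem chart (hd : IsUniversal d) {U : X.Opens} {V : Y.Opens} (hU : IsAffineOpen U) (hV : IsAffineOpen V)
    (h : U ≤ f ⁻¹ᵁ V) [QuasiSeparated (f.resLE V U h)] :
    Function.Bijective (toMod d V U h) ∧
      Nonempty (Omega.sheaf (f.resLE V U h) ≅ (Scheme.Modules.restrictFunctor U.ι).obj M) := by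
  have : IsAffine U := hU
  have : IsAffine V := hV
  let g := f.resLE V U h
  have hg : g ≫ V.ι = U.ι ≫ f := Scheme.Hom.resLE_comp_ι f h
  let N := (Scheme.Modules.pushforward U.ι).obj (Omega.sheaf g)
  let DN : Der f N := mkDer (fun O s => (dSect g (U.ι ⁻¹ᵁ O) (U.ι.app O s) : Γ(Omega.sheaf g, U.ι ⁻¹ᵁ O)))
    (fun O a b => by rw [map_add, dSect_add]; rfl)
    (fun O a b => by rw [map_mul, dSect_mul]; rfl)
    (fun O O' e s => by
      rw [show U.ι.app O' (X.presheaf.map (homOfLE e).op s) =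
        (U : Scheme).presheaf.map (homOfLE (U.ι.preimage_mono e)).op (U.ι.app O s) from
          congr(($(U.ι.naturality (homOfLE e).op)) s)]
      exact dSect_map g (U.ι.preimage_mono e) _)
    (fun V' c => by
      have e1 : U.ι ⁻¹ᵁ (f ⁻¹ᵁ V') ≤ g ⁻¹ᵁ (V.ι ⁻¹ᵁ V') := le_of_eq (by
        rw [← Scheme.Hom.comp_preimage, ← Scheme.Hom.comp_preimage, hg])
      rw [show U.ι.app (f ⁻¹ᵁ V') (f.app V' c) = g.appLE _ _ e1 (V.ι.app V' c) by
        rw [Scheme.Hom.app_eq_appLE, Scheme.Hom.app_eq_appLE, Scheme.Hom.app_eq_appLE,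
          appLE_appLE_eq hg _ _ (le_of_eq (Scheme.Hom.comp_preimage _ _ _).symm),
          appLE_appLE_eq rfl _ _ (le_of_eq (Scheme.Hom.comp_preimage _ _ _).symm)]]
      exact OmAff.dSect_appLE g _ _ e1 _)
  obtain ⟨α, hα⟩ := exists_lift hd DN
  -- the inverse on U
  let M' := (Scheme.Modules.restrictFunctor U.ι).obj M
  let DM : Der g M' := mkDer (fun O t => (d.app (U.ι ''ᵁ O) ((U.ι.appIso O).inv t) : Γ(M, U.ι ''ᵁ O)))
    (fun O a b => by rw [map_add, map_add]; rfl)
    (fun O a b => by rw [map_mul, app_mul]; rfl)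
    (fun O O' e t => by
      rw [show (U.ι.appIso O').inv ((U : Scheme).presheaf.map (homOfLE e).op t) =
        X.presheaf.map (homOfLE (U.ι.image_mono e)).op ((U.ι.appIso O).inv t) from
          congr(($(U.ι.appIso_inv_naturality (homOfLE e).op)) t)]
      exact app_map d (U.ι.image_mono e) _)
    (fun V'' c => by
      obtain ⟨c', rfl⟩ := (V.ι.appIso V'').commRingCatIsoToRingEquiv.surjective c
      have e1 : U.ι ''ᵁ (g ⁻¹ᵁ V'') ≤ f ⁻¹ᵁ (V.ι ''ᵁ V'') := by
        rintro _ ⟨y, hy, rfl⟩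
        exact ⟨g y, hy, show (g ≫ V.ι) y = (U.ι ≫ f) y by rw [hg]⟩
      show d.app (U.ι ''ᵁ (g ⁻¹ᵁ V'')) ((U.ι.appIso (g ⁻¹ᵁ V'')).inv (g.app V'' ((V.ι.appIso V'').hom c'))) =
        (0 : Γ(M, U.ι ''ᵁ (g ⁻¹ᵁ V'')))
      rw [show (U.ι.appIso (g ⁻¹ᵁ V'')).inv (g.app V'' ((V.ι.appIso V'').hom c')) =
          f.appLE _ _ e1 c' by
        apply (U.ι.appIso (g ⁻¹ᵁ V'')).commRingCatIsoToRingEquiv.injective
        show ((U.ι.appIso (g ⁻¹ᵁ V'')).inv ≫ (U.ι.appIso (g ⁻¹ᵁ V'')).hom) _ =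
          (U.ι.appIso (g ⁻¹ᵁ V'')).hom _
        rw [Iso.inv_hom_id, CommRingCat.id_apply, Scheme.Hom.appIso_hom', Scheme.Hom.appIso_hom',
          Scheme.Hom.app_eq_appLE,
          appLE_appLE_eq hg _ _ (le_of_eq (by rw [← hg, Scheme.Hom.comp_preimage, Scheme.Hom.preimage_image_eq])),
          appLE_appLE_eq rfl _ _ _]]
      exact app_appLE d _ _ e1 _)
  obtain ⟨β, hβ⟩ := exists_lift (ConormalSection.isUniversal_dOmega g) DM
  have hβ' : ∀ O t, β.app O (dSect g O t) = (d.app (U.ι ''ᵁ O) ((U.ι.appIso O).inv t) : Γ(M, U.ι ''ᵁ O)) := hβ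
  let α' : M' ⟶ Omega.sheaf g := ((Scheme.Modules.restrictAdjunction U.ι).homEquiv _ _).symm α
  have hα' : ∀ O s, α'.app O (d.app (U.ι ''ᵁ O) s : Γ(M, U.ι ''ᵁ O)) = dSect g O ((U.ι.appIso O).hom s) := by
    intro O s
    have e1 : α' = (Scheme.Modules.restrictFunctor U.ι).map α ≫
        (Scheme.Modules.restrictAdjunction U.ι).counit.app _ := (Scheme.Modules.restrictAdjunction U.ι).homEquiv_counit _ _ α
    rw [e1]
    show (Omega.sheaf g).presheaf.map (eqToHom (U.ι.preimage_image_eq O).symm).op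
      (α.app (U.ι ''ᵁ O) (d.app (U.ι ''ᵁ O) s)) = _
    rw [hα]
    refine (dSect_map g (U.ι.preimage_image_eq O).ge _).symm.trans ?_
    rw [Scheme.Hom.appIso_hom']
    rfl
  have hαβ : β ≫ α' = 𝟙 _ := hom_ext (ConormalSection.isUniversal_dOmega g) fun O t => by
    show α'.app O (β.app O (dSect g O t)) = dSect g O t
    rw [hβ', hα']
    exact congrArg (dSect g O) congr(($((U.ι.appIso O).inv_hom_id)) t)
  have hβα : α' ≫ β = 𝟙 M' := by
    refine ((Scheme.Modules.restrictAdjunction U.ι).homEquiv _ _).injective ?_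
    refine hom_ext hd fun O s => ?_
    rw [Adjunction.homEquiv_unit, Adjunction.homEquiv_unit]
    show β.app (U.ι ⁻¹ᵁ O) (α'.app (U.ι ⁻¹ᵁ O) (M.presheaf.map (homOfLE (U.ι.image_preimage_le O)).op (d.app O s))) =
      M.presheaf.map (homOfLE (U.ι.image_preimage_le O)).op (d.app O s)
    rw [← app_map, hα', hβ']
    exact congrArg (d.app _) congr(($((U.ι.appIso _).hom_inv_id)) _)
  let iso : Omega.sheaf g ≅ M' := ⟨β, α', hαβ, hβα⟩
  refine ⟨?_, ⟨iso⟩⟩
  have fac : V.topIso.inv ≫ g.appLE ⊤ ⊤ le_top = f.appLE V U h ≫ U.topIso.inv := by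
    rw [show g.appLE ⊤ ⊤ le_top = _ from Scheme.Hom.resLE_appLE f h ⊤ ⊤ le_top]
    show Y.presheaf.map (homOfLE V.ι_image_top.le).op ≫ _ = _ ≫ X.presheaf.map (homOfLE U.ι_image_top.le).op
    rw [Scheme.Hom.map_appLE, Scheme.Hom.appLE_map]
  obtain ⟨m, hm, hma, hms, hmd⟩ :=
    Groth.Agent.S15742.transport (f.appLE V U h) (g.appLE ⊤ ⊤ le_top) V.topIso.symm U.topIso.symm fac
  let Φ : CommRingCat.KaehlerDifferential (f.appLE V U h) → Γ(M, U) := fun z =>
    M.presheaf.map (eqToHom U.ι_image_top.symm).op (β.app ⊤ (OmAff.toSect g ⊤ ⊤ le_top (m z)))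
  have : IsIso ((Scheme.Modules.toPresheaf _).map β) := inferInstanceAs (IsIso ((Scheme.Modules.toPresheaf _).mapIso iso).hom)
  have : IsIso (β.app ⊤) := inferInstanceAs (IsIso (((Scheme.Modules.toPresheaf _).map β).app (op ⊤)))
  have hΦ : Function.Bijective Φ :=
    (ConcreteCategory.bijective_of_isIso (M.presheaf.map (eqToHom U.ι_image_top.symm).op)).comp
      ((ConcreteCategory.bijective_of_isIso (β.app ⊤)).comp
        ((ConormalSection.bijective_toSect g (isAffineOpen_top _) (isAffineOpen_top _) le_top).comp hm))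
  suffices key : ∀ z, toMod d V U h z = Φ z by
    exact (show (toMod d V U h : _ → _) = Φ from funext key) ▸ hΦ
  intro z
  let _ := (f.appLE V U h).hom.toAlgebra
  change Ω[Γ(X, U)⁄Γ(Y, V)] at z
  have hz : z ∈ Submodule.span Γ(X, U) (Set.range (KaehlerDifferential.D Γ(Y, V) Γ(X, U))) := by
    rw [KaehlerDifferential.span_range_derivation]; trivial
  have hsm : ∀ (a : Γ(X, U)) y, Φ (a • y) = a • Φ y := fun a y => by
    show M.presheaf.map _ (β.app ⊤ (OmAff.toSect g ⊤ ⊤ le_top (m (a • y)))) = _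
    rw [hms, map_smul, Scheme.Modules.Hom.app_smul]
    show M.presheaf.map _ ((U.ι.appIso ⊤).inv (U.topIso.inv a) •
      (show Γ(M, U.ι ''ᵁ ⊤) from β.app ⊤ (OmAff.toSect g ⊤ ⊤ le_top (m y)))) = _
    rw [Scheme.Modules.map_smul]
    congr 1
    rw [Scheme.Opens.ι_appIso, Scheme.Opens.topIso]
    show (X.presheaf.map _ ≫ X.presheaf.map _) a = a
    rw [← Functor.map_comp]
    exact ConcreteCategory.congr_hom (X.presheaf.map_id _) a
  induction hz using Submodule.span_induction with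
  | mem y hy =>
    obtain ⟨b, rfl⟩ := hy
    refine (toMod_d d V U h b).trans (Eq.symm ?_)
    show M.presheaf.map _ (β.app ⊤ (OmAff.toSect g ⊤ ⊤ le_top (m (CommRingCat.KaehlerDifferential.d b)))) = _
    rw [hmd, OmAff.toSect_d, hβ']
    refine (app_map d U.ι_image_top.ge _).symm.trans ?_
    rw [Scheme.Opens.ι_appIso, Scheme.Opens.topIso]
    congr 1
    show (X.presheaf.map _ ≫ X.presheaf.map _) b = b
    rw [← Functor.map_comp]
    exact ConcreteCategory.congr_hom (X.presheaf.map_id _) b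
  | zero =>
    have h0 := hsm 0 0
    rw [zero_smul, zero_smul] at h0
    exact (map_zero (toMod d V U h).hom).trans h0.symm
  | add y w _ _ hy hw =>
    refine (map_add (toMod d V U h).hom y w).trans ((congrArg₂ (· + ·) hy hw).trans ?_)
    show M.presheaf.map _ _ + M.presheaf.map _ _ = M.presheaf.map _ (β.app ⊤ (OmAff.toSect g ⊤ ⊤ le_top (m (y + w))))
    exact (((congrArg (fun z => M.presheaf.map (eqToHom U.ι_image_top.symm).op (β.app ⊤ (OmAff.toSect g ⊤ ⊤ le_top z))) (hma y w)).trans (by rw [map_add, map_add]; exact map_add _ _ _))).symm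
  | smul a y _ hy =>
    exact (map_smul (toMod d V U h).hom a y).trans ((congrArg (a • ·) hy).trans (hsm a y).symm)

theorem bijective_toMod (hd : IsUniversal d) {U : X.Opens} {V : Y.Opens} (hU : IsAffineOpen U)
    (hV : IsAffineOpen V) (h : U ≤ f ⁻¹ᵁ V) : Function.Bijective (toMod d V U h) := by
  have : IsAffine U := hU
  have : IsAffine V := hV
  exact (chart hd hU hV h).1

theorem isQuasicoherent (hd : IsUniversal d) : M.IsQuasicoherent := by
  refine QCohLib.isQuasicoherent_of_cover (fun i : ConormalSection.AffPairs f => i.1.ι) ?_ fun i => ?_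
  · intro x
    obtain ⟨_, ⟨i, rfl⟩, hxi, -⟩ :=
      Opens.isBasis_iff_nbhd.1 (ConormalSection.isBasis_affPairs f) (show x ∈ (⊤ : X.Opens) from trivial)
    exact ⟨i, ⟨⟨x, hxi⟩, rfl⟩⟩
  · obtain ⟨U, hU, V, hV, h⟩ := i
    have : IsAffine U := hU
    have : IsAffine V := hV
    obtain ⟨e⟩ := (chart hd hU hV h).2
    have := ConormalSection.omega_isQuasicoherent (f.resLE V U h)
    exact QCohLib.isQuasicoherent_of_iso e

theorem span_d (hd : IsUniversal d) (i : ConormalSection.AffPairs f) :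
    Submodule.span Γ(X, i.1) (Set.range (d.app i.1)) = ⊤ := by
  obtain ⟨U, hU, V, hV, h⟩ := i
  let _ := (f.appLE V U h).hom.toAlgebra
  rw [Submodule.eq_top_iff']
  intro z
  obtain ⟨w, rfl⟩ := (bijective_toMod hd hU hV h).2 z
  change Ω[Γ(X, U)⁄Γ(Y, V)] at w
  have hw : w ∈ Submodule.span Γ(X, U) (Set.range (KaehlerDifferential.D Γ(Y, V) Γ(X, U))) := by
    rw [KaehlerDifferential.span_range_derivation]; trivial
  induction hw using Submodule.span_induction with
  | mem y hy =>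
    obtain ⟨b, rfl⟩ := hy
    exact Submodule.subset_span ⟨b, (toMod_d d V U h b).symm⟩
  | zero => rw [show toMod d V U h (0 : Ω[Γ(X, U)⁄Γ(Y, V)]) = 0 from map_zero (toMod d V U h).hom]; exact zero_mem _
  | add y v _ _ hy hv =>
    rw [show toMod d V U h (y + v) = toMod d V U h y + toMod d V U h v from map_add (toMod d V U h).hom y v]
    exact add_mem hy hv
  | smul a y _ hy =>
    rw [show toMod d V U h (a • y) = a • toMod d V U h y from map_smul (toMod d V U h).hom a y]
    exact Submodule.smul_mem _ _ hy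

end Groth.Agent.OmegaUniv
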