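import Groth.Prelude.Def_Omega3
import Groth.Prelude.Def_OmegaPn
import Mathlib.CategoryTheory.Abelian.Exact
import Mathlib.AlgebraicGeometry.Modules.Sheaf

/-! Calculus with universal derivations. -/

set_option autoImplicit false
universe u
open CategoryTheory Limits AlgebraicGeometry TopologicalSpace Opposite OmegaSh

namespace Groth.Agent.OmegaUniv

variable {X Y : Scheme.{u}} {f : X ⟶ Y} {M F : X.Modules}

theorem app_postcomp (d : Der f M) (α : M ⟶ F) (U : X.Opens) (s : Γ(X, U)) :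
    Der.app (f := f) (F := F) (d.postcomp α.val) U s = α.app U (d.app U s) := rfl

theorem app_map (D : Der f F) {U V : X.Opens} (e : V ≤ U) (s : Γ(X, U)) :
    D.app V (X.presheaf.map (homOfLE e).op s) = F.presheaf.map (homOfLE e).op (D.app U s) :=
  D.d_map (homOfLE e).op s

theorem app_mul (D : Der f F) (U : X.Opens) (a b : Γ(X, U)) :
    D.app U (a * b) = a • D.app U b + b • D.app U a := D.d_mul (X := op U) a b

theorem app_app (D : Der f F) (V : Y.Opens) (c : Γ(Y, V)) : D.app (f ⁻¹ᵁ V) (f.app V c) = 0 :=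
  D.d_app (X := op V) c

theorem app_appLE (D : Der f F) (V : Y.Opens) (U : X.Opens) (h : U ≤ f ⁻¹ᵁ V) (c : Γ(Y, V)) :
    D.app U (f.appLE V U h c) = 0 := by
  rw [Scheme.Hom.appLE]
  show D.app U (X.presheaf.map (homOfLE h).op (f.app V c)) = 0
  rw [app_map, app_app, map_zero]

theorem der_ext {D D' : Der f F} (h : ∀ (U : X.Opens) (s : Γ(X, U)), D.app U s = D'.app U s) :
    D = D' := by
  refine PresheafOfModules.Derivation.ext ?_
  ext O s
  exact h O.unop s

/-- build a derivation -/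
def mkDer (D : ∀ U : X.Opens, Γ(X, U) → Γ(F, U)) (hadd : ∀ U a b, D U (a + b) = D U a + D U b)
    (hmul : ∀ U a b, D U (a * b) = a • D U b + b • D U a)
    (hmap : ∀ (U V : X.Opens) (e : V ≤ U) s,
      D V (X.presheaf.map (homOfLE e).op s) = F.presheaf.map (homOfLE e).op (D U s))
    (happ : ∀ (V : Y.Opens) c, D (f ⁻¹ᵁ V) (f.app V c) = 0) : Der f F where
  d {U} := AddMonoidHom.mk' (fun s => D U.unop s) (hadd U.unop)
  d_mul {U} a b := hmul U.unop a b
  d_map {U V} i s := hmap U.unop V.unop i.unop.le s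
  d_app {V} c := happ V.unop c

theorem mkDer_app (D : ∀ U : X.Opens, Γ(X, U) → Γ(F, U)) (hadd) (hmul) (hmap) (happ) (U : X.Opens)
    (s : Γ(X, U)) : (mkDer (f := f) D hadd hmul hmap happ).app U s = D U s := rfl

variable {d : Der f M}

theorem hom_ext (hd : IsUniversal d) {α β : M ⟶ F}
    (h : ∀ (U : X.Opens) (s : Γ(X, U)), α.app U (d.app U s) = β.app U (d.app U s)) : α = β :=
  (hd F (d.postcomp α.val)).unique rfl (der_ext fun U s => (h U s).symm)

theorem exists_lift (hd : IsUniversal d) (D : Der f F) :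
    ∃ α : M ⟶ F, ∀ (U : X.Opens) (s : Γ(X, U)), α.app U (d.app U s) = D.app U s := by
  obtain ⟨α, hα, -⟩ := hd F D
  exact ⟨α, fun U s => (app_postcomp d α U s).symm.trans (by rw [hα])⟩

section Pull

variable {Z : Scheme.{u}} (h : Z ⟶ X) {G : Z.Modules}

/-- the adjunct of a morphism out of a pullback -/
noncomputable def adjunct (γ : (Scheme.Modules.pullback h).obj M ⟶ G) :
    M ⟶ (Scheme.Modules.pushforward h).obj G :=
  (Scheme.Modules.pullbackPushforwardAdjunction h).homEquiv _ _ γ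

theorem adjunct_app (γ : (Scheme.Modules.pullback h).obj M ⟶ G) (U : X.Opens) (m : Γ(M, U)) :
    ((adjunct h γ).app U m : Γ(G, h ⁻¹ᵁ U)) = γ.app (h ⁻¹ᵁ U) (pullSect h M U m) := by
  rw [adjunct, Adjunction.homEquiv_unit]
  rfl

theorem pull_hom_ext {γ γ' : (Scheme.Modules.pullback h).obj M ⟶ G}
    (H : ∀ (U : X.Opens) (m : Γ(M, U)),
      γ.app (h ⁻¹ᵁ U) (pullSect h M U m) = γ'.app (h ⁻¹ᵁ U) (pullSect h M U m)) : γ = γ' := by
  refine ((Scheme.Modules.pullbackPushforwardAdjunction h).homEquiv _ _).injective ?_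
  refine Scheme.Modules.hom_ext _ _ fun U => ?_
  ext m
  exact ((adjunct_app h γ U m).trans (H U m)).trans (adjunct_app h γ' U m).symm

theorem pull_univ_ext (hd : IsUniversal d) {γ γ' : (Scheme.Modules.pullback h).obj M ⟶ G}
    (H : ∀ (U : X.Opens) (s : Γ(X, U)),
      γ.app (h ⁻¹ᵁ U) (pullSect h M U (d.app U s)) = γ'.app (h ⁻¹ᵁ U) (pullSect h M U (d.app U s))) :
    γ = γ' := by
  refine ((Scheme.Modules.pullbackPushforwardAdjunction h).homEquiv _ _).injective ?_
  refine hom_ext hd fun U s => ?_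
  exact ((adjunct_app h γ U _).trans (H U s)).trans (adjunct_app h γ' U _).symm

theorem exists_pull_lift (hd : IsUniversal d) (D : Der f ((Scheme.Modules.pushforward h).obj G)) :
    ∃ γ : (Scheme.Modules.pullback h).obj M ⟶ G, ∀ (U : X.Opens) (s : Γ(X, U)),
      γ.app (h ⁻¹ᵁ U) (pullSect h M U (d.app U s)) = (D.app U s : Γ(G, h ⁻¹ᵁ U)) := by
  obtain ⟨α, hα⟩ := exists_lift hd D
  refine ⟨((Scheme.Modules.pullbackPushforwardAdjunction h).homEquiv _ _).symm α, fun U s => ?_⟩
  rw [← adjunct_app, adjunct, Equiv.apply_symm_apply, hα]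

theorem pullId_app (N : X.Modules) (U : X.Opens) (m : Γ(N, U)) :
    ((Scheme.Modules.pullbackId X).inv.app N).app U m = pullSect (𝟙 X) N U m := by
  have h1 := congr(($(Scheme.Modules.conjugateEquiv_pullbackId_hom (X := X))).app N)
  have key : (Scheme.Modules.pullbackPushforwardAdjunction (𝟙 X)).unit.app N ≫
      (Scheme.Modules.pushforward (𝟙 X)).map ((Scheme.Modules.pullbackId X).hom.app N) =
      (Scheme.Modules.pushforwardId X).inv.app N := by
    rw [← h1, conjugateEquiv_apply_app]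
    simp
  have h2 := congr(($key).app U m)
  have h3 : ((Scheme.Modules.pullbackId X).hom.app N).app U (pullSect (𝟙 X) N U m) = m :=
    h2.trans (by simp; rfl)
  conv_lhs => rw [← h3]
  exact congr(($((Scheme.Modules.pullbackId X).hom_inv_id_app N)).app U (pullSect (𝟙 X) N U m))

end Pull

theorem exact_of_factors {A B C : X.Modules} (a : A ⟶ B) (b : B ⟶ C) (w : a ≫ b = 0) [Epi b]
    (h : ∀ (G : X.Modules) (γ : B ⟶ G), a ≫ γ = 0 → ∃ α : C ⟶ G, b ≫ α = γ) :
    (ShortComplex.mk a b w).Exact := by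
  refine ShortComplex.exact_of_g_is_cokernel _ (CokernelCofork.IsColimit.ofπ _ _ ?_ ?_ ?_)
  · exact fun γ hγ => (h _ γ hγ).choose
  · exact fun γ hγ => (h _ γ hγ).choose_spec
  · intro G γ hγ α hα
    exact (cancel_epi b).1 (hα.trans (h _ γ hγ).choose_spec.symm)

end Groth.Agent.OmegaUniv
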