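import Mathlib.RingTheory.Etale.Kaehler
import Mathlib.RingTheory.Unramified.Basic

/-! Differentials along a square of rings with etale horizontal maps. -/

set_option autoImplicit false
universe u
open KaehlerDifferential TensorProduct

namespace Groth.Agent.OmegaUniv

variable (A B A' C : Type u) [CommRing A] [CommRing B] [CommRing A'] [CommRing C]
  [Algebra A B] [Algebra A A'] [Algebra A' C] [Algebra B C] [Algebra A C]
  [IsScalarTower A B C] [IsScalarTower A A' C]

theorem bijective_map_of_unramified_base [Algebra.FormallyUnramified A A'] :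
    Function.Bijective (KaehlerDifferential.map A A' C C) := by
  refine ⟨?_, KaehlerDifferential.map_surjective A A' C⟩
  rw [injective_iff_map_eq_zero]
  intro x hx
  obtain ⟨y, rfl⟩ := (KaehlerDifferential.exact_mapBaseChange_map A A' C x).mp hx
  rw [Subsingleton.elim y 0, map_zero]

variable [Algebra.FormallyUnramified A A'] [Algebra.FormallyEtale B C]

include A in
theorem span_D_algebraMap :
    Submodule.span C (Set.range fun b : B => D A' C (algebraMap B C b)) = ⊤ := by
  rw [Submodule.eq_top_iff']
  intro x
  obtain ⟨x, rfl⟩ := KaehlerDifferential.map_surjective A A' C x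
  obtain ⟨y, rfl⟩ := (tensorKaehlerEquivOfFormallyEtale A B C).surjective x
  induction y using TensorProduct.induction_on with
  | zero => simp
  | add a b ha hb => rw [map_add, map_add]; exact add_mem ha hb
  | tmul c w =>
    rw [tensorKaehlerEquivOfFormallyEtale_apply, mapBaseChange_tmul, map_smul]
    refine Submodule.smul_mem _ _ ?_
    have hw : w ∈ Submodule.span B (Set.range (D A B)) := by
      rw [span_range_derivation]; trivial
    induction hw using Submodule.span_induction with
    | mem w hw =>
      obtain ⟨b, rfl⟩ := hw
      rw [map_D, map_D]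
      exact Submodule.subset_span ⟨b, rfl⟩
    | zero => simp
    | add a b _ _ ha hb => rw [map_add, map_add]; exact add_mem ha hb
    | smul r a _ ha =>
      rw [map_smul, ← algebraMap_smul C r, map_smul]
      exact Submodule.smul_mem _ _ ha

theorem exists_lift_etale {Q : Type u} [AddCommGroup Q] [Module C Q] [Module B Q] [IsScalarTower B C Q]
    (ℓ : Ω[B⁄A] →ₗ[B] Q) :
    ∃ ψ : Ω[C⁄A'] →ₗ[C] Q, ∀ b, ψ (D A' C (algebraMap B C b)) = ℓ (D A B b) := by
  let e := LinearEquiv.ofBijective (KaehlerDifferential.map A A' C C)
    (bijective_map_of_unramified_base A A' C)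
  refine ⟨(ℓ.liftBaseChange C).comp ((tensorKaehlerEquivOfFormallyEtale A B C).symm.toLinearMap.comp
    e.symm.toLinearMap), fun b => ?_⟩
  have h1 : e.symm (D A' C (algebraMap B C b)) = D A C (algebraMap B C b) := by
    rw [LinearEquiv.symm_apply_eq]
    exact (map_D A A' C C (algebraMap B C b)).symm
  simp [h1, tensorKaehlerEquivOfFormallyEtale_symm_D_algebraMap]

end Groth.Agent.OmegaUniv
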