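import Groth.Agent.OmegaUniv.Res
import Groth.Agent.QCohLib.Sections
import Mathlib.AlgebraicGeometry.Morphisms.Preimmersion

/-! Gluing along local lifts of functions through a preimmersion. -/

set_option autoImplicit false
universe u
open CategoryTheory Limits AlgebraicGeometry TopologicalSpace Opposite OmegaSh
open Groth.Agent.ConormalSection (pullRes)

namespace Groth.Agent.OmegaUniv

variable {X Y Z : Scheme.{u}} {G : X.Modules}

theorem section_ext_local {U : X.Opens} {s t : Γ(G, U)}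
    (h : ∀ x ∈ U, ∃ (V : X.Opens) (e : V ≤ U), x ∈ V ∧
      G.presheaf.map (homOfLE e).op s = G.presheaf.map (homOfLE e).op t) : s = t := by
  refine QCohLib.section_ext _ _ fun x hx => ?_
  obtain ⟨V, e, hxV, he⟩ := h x hx
  rw [← TopCat.Presheaf.germ_res_apply G.presheaf (homOfLE e) x hxV,
    ← TopCat.Presheaf.germ_res_apply G.presheaf (homOfLE e) x hxV, he]

theorem fn_res_res {A B C : X.Opens} (h₁ : B ≤ A) (h₂ : C ≤ B) (x : Γ(X, A)) :
    X.presheaf.map (homOfLE h₂).op (X.presheaf.map (homOfLE h₁).op x) =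
      X.presheaf.map (homOfLE (h₂.trans h₁)).op x := by
  rw [← ConcreteCategory.comp_apply, ← Functor.map_comp]
  rfl

theorem map_appLE_apply (j : X ⟶ Y) {W W' : Y.Opens} {V : X.Opens} (hW : W' ≤ W) (e : V ≤ j ⁻¹ᵁ W')
    (s : Γ(Y, W)) :
    j.appLE W' V e (Y.presheaf.map (homOfLE hW).op s) = j.appLE W V (e.trans (j.preimage_mono hW)) s :=
  congr(($(Scheme.Hom.map_appLE j e (homOfLE hW).op)) s)

theorem appLE_map_apply (j : X ⟶ Y) {W : Y.Opens} {V V' : X.Opens} (hV : V' ≤ V) (e : V ≤ j ⁻¹ᵁ W)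
    (s : Γ(Y, W)) :
    X.presheaf.map (homOfLE hV).op (j.appLE W V e s) = j.appLE W V' (hV.trans e) s :=
  congr(($(Scheme.Hom.appLE_map j e (homOfLE hV).op)) s)

/-- a local lift of a function through `j` -/
structure Lift (j : X ⟶ Y) {U : X.Opens} (t : Γ(X, U)) where
  W : Y.Opens
  V : X.Opens
  eW : V ≤ j ⁻¹ᵁ W
  eU : V ≤ U
  s : Γ(Y, W)
  hs : j.appLE W V eW s = X.presheaf.map (homOfLE eU).op t

/-- lifts restrict -/
def Lift.res {j : X ⟶ Y} {U : X.Opens} {t : Γ(X, U)} (L : Lift j t) {U' : X.Opens} (e : U' ≤ U) :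
    Lift j (X.presheaf.map (homOfLE e).op t) where
  W := L.W
  V := L.V ⊓ U'
  eW := inf_le_left.trans L.eW
  eU := inf_le_right
  s := L.s
  hs := by
    rw [← appLE_map_apply j inf_le_left L.eW, L.hs, fn_res_res, fn_res_res]

theorem exists_lift_at (j : X ⟶ Y) [IsPreimmersion j] {U : X.Opens} (t : Γ(X, U)) (x : X) (hx : x ∈ U) :
    ∃ L : Lift j t, x ∈ L.V := by
  obtain ⟨a, ha⟩ := j.stalkMap_surjective x (X.presheaf.germ U x hx t)
  obtain ⟨W, hxW, s, rfl⟩ := Y.presheaf.exists_germ_eq a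
  rw [Scheme.Hom.germ_stalkMap_apply] at ha
  obtain ⟨V, hxV, iV, iV', e⟩ := X.presheaf.germ_eq x hxW hx _ _ ha
  exact ⟨⟨W, V, iV.le, iV'.le, s, by rw [Scheme.Hom.appLE]; exact e⟩, hxV⟩

theorem exists_glue_lift (j : X ⟶ Y) [IsPreimmersion j] {U : X.Opens} (t : Γ(X, U))
    (A : ∀ L : Lift j t, Γ(G, L.V))
    (hA : ∀ (L L' : Lift j t) (V : X.Opens) (h : V ≤ L.V) (h' : V ≤ L'.V),
      G.presheaf.map (homOfLE h).op (A L) = G.presheaf.map (homOfLE h').op (A L')) :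
    ∃ z : Γ(G, U), ∀ L : Lift j t, G.presheaf.map (homOfLE L.eU).op z = A L := by
  obtain ⟨z, hz, -⟩ := TopCat.Sheaf.existsUnique_gluing' ⟨G.presheaf, G.isSheaf⟩ (fun L : Lift j t => L.V) U
    (fun L => homOfLE L.eU)
    (fun x hx => Opens.mem_iSup.2 (exists_lift_at j t x hx)) A
    (fun a b => hA a b _ inf_le_left inf_le_right)
  exact ⟨z, hz⟩

/-- functions killed on `V` are killed by `j` on a smaller open with the same trace -/
theorem exists_idealSect_of_appLE (j : X ⟶ Y) [IsPreimmersion j] [QuasiCompact j] {W : Y.Opens}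
    {V : X.Opens} (e : V ≤ j ⁻¹ᵁ W) (a : Γ(Y, W)) (ha : j.appLE W V e a = 0) :
    ∃ (W' : Y.Opens) (hW : W' ≤ W) (_ : V ≤ j ⁻¹ᵁ W') (m : Γ(ClSub.idealMod j.ker, W')),
      idealSect j.ker W' m = Y.presheaf.map (homOfLE hW).op a := by
  obtain ⟨O, hO, hOV⟩ := j.isEmbedding.isInducing.isOpen_iff.1 V.2
  let W' : Y.Opens := W ⊓ ⟨O, hO⟩
  have hV : V ≤ j ⁻¹ᵁ W' := fun x hx =>
    ⟨e hx, show x ∈ j ⁻¹' O by rw [hOV]; exact hx⟩
  have hV' : j ⁻¹ᵁ W' ≤ V := fun x hx => show x ∈ V.carrier by rw [← hOV]; exact hx.2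
  obtain ⟨m, hm⟩ := exists_idealSect j (Y.presheaf.map (homOfLE (inf_le_left : W' ≤ W)).op a) (by
    rw [Scheme.Hom.app_eq_appLE, map_appLE_apply, ← appLE_map_apply j hV' e, ha, map_zero])
  exact ⟨W', inf_le_left, hV, m, hm⟩

end Groth.Agent.OmegaUniv
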